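import Groth.Agent.PicZero.Basic
import Groth.Prelude.Def_AgPol
import Mathlib.AlgebraicGeometry.Sites.Fpqc

/-!
# Points of a given dual: formal consequences of the definition
-/

set_option autoImplicit false
universe u

open CategoryTheory CategoryTheory.Limits MonoidalCategory CartesianMonoidalCategory MonObj AlgebraicGeometry

noncomputable section

namespace Groth.Agent.PicZero

open scoped Groth.Agent.PicLaw
open PicLaw (pl)
open PicLaw.Mumford (op)

variable {S : Scheme.{u}} {X Xt : Over S} [GrpObj Xt]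

/-- A family in the fppf precoverage detects morphisms to any scheme, and glues compatible families. -/
theorem isSheafFor_fppf {T : Scheme.{u}} {R : Presieve T} (hR : R ∈ Scheme.fppfPrecoverage T)
    (Z : Scheme.{u}) : Presieve.IsSheafFor (yoneda.obj Z) R :=
  (GrothendieckTopology.Subcanonical.isSheaf_of_isRepresentable (J := Scheme.fppfTopology) (yoneda.obj Z)).isSheafFor
    R (Precoverage.generate_mem_toGrothendieck hR)

/-- Factorisation through a monomorphism is local for the fppf topology. -/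
theorem exists_lift_of_fppf {T K G : Over S} (i : K ⟶ G) [Mono i.left] (z : T ⟶ G) {R : Presieve T.left}
    (hR : R ∈ Scheme.fppfPrecoverage T.left)
    (h : ∀ ⦃U : Scheme.{u}⦄ (u : U ⟶ T.left), R u → ∃ y : U ⟶ K.left, y ≫ i.left = u ≫ z.left) :
    ∃ y : T ⟶ K, y ≫ i = z := by
  let x : Presieve.FamilyOfElements (yoneda.obj K.left) R := fun U u hu => (h u hu).choose
  have hx : x.Compatible := fun U₁ U₂ V g₁ g₂ f₁ f₂ h₁ h₂ hg => by
    show g₁ ≫ x f₁ h₁ = g₂ ≫ x f₂ h₂
    rw [← cancel_mono i.left, Category.assoc, Category.assoc, (h f₁ h₁).choose_spec, (h f₂ h₂).choose_spec,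
      ← Category.assoc, ← Category.assoc, hg]
  obtain ⟨y, hy, -⟩ := isSheafFor_fppf hR K.left x hx
  have hyi : y ≫ i.left = z.left := (isSheafFor_fppf hR G.left).isSeparatedFor.ext fun U u hu => by
    show u ≫ y ≫ i.left = u ≫ z.left
    rw [← Category.assoc, show u ≫ y = x u hu from hy u hu, (h u hu).choose_spec]
  exact ⟨Over.homMk y (by rw [← Over.w i, ← Category.assoc, hyi, Over.w z]),
    Over.OverMorphism.ext hyi⟩

variable {K : Precoverage Scheme.{u}} {φ : ∀ T : Over S, PicF.Cl (PicF.XT X.hom T) → (T ⟶ Xt)}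

theorem pt_natural (hφ : AbDual.IsDualAV K X Xt φ) {T T' : Over S} (g : T' ⟶ T)
    (c : PicLoc.PicSet (X ⊗ T).left) (hc : Zero T c) :
    φ T' (op (X ◁ g) c).1 = g ≫ φ T c.1 := by
  have h := hφ.relPic.natural T T' g c.1 hc
  rw [xtMap_eq] at h
  exact h

theorem pt_mul (hφ : AbDual.IsDualAV K X Xt φ) {T : Over S}
    (c d : PicLoc.PicSet (X ⊗ T).left) (hc : Zero T c) (hd : Zero T d) :
    φ T (c * d).1 = φ T c.1 * φ T d.1 := by
  obtain ⟨L, hL, rfl⟩ := PicGrp.exists_eq_cls c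
  obtain ⟨M, hM, rfl⟩ := PicGrp.exists_eq_cls d
  rw [PicGrp.cls_mul_cls_val]
  exact hφ.mul T L M hc hd

theorem pt_one (hφ : AbDual.IsDualAV K X Xt φ) (T : Over S) :
    φ T (1 : PicLoc.PicSet (X ⊗ T).left).1 = 1 := by
  have h := pt_mul hφ (1 : PicLoc.PicSet (X ⊗ T).left) 1 (zero_one T) (zero_one T)
  rw [_root_.one_mul] at h
  exact mul_eq_left.mp h.symm

theorem pt_locallyInjective (hφ : AbDual.IsDualAV K X Xt φ) {T : Over S}
    (c d : PicLoc.PicSet (X ⊗ T).left) (hc : Zero T c) (hd : Zero T d) (h : φ T c.1 = φ T d.1) :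
    ∃ R ∈ K T.left, ∀ ⦃U : Scheme.{u}⦄ (u : U ⟶ T.left), R u →
      op (X ◁ AbDual.ovrHom T u) c = op (X ◁ AbDual.ovrHom T u) d := by
  obtain ⟨R, hR, hu⟩ := hφ.relPic.locallyInjective T c.1 d.1 hc hd h
  refine ⟨R, hR, fun U u h' => Subtype.ext ?_⟩
  have := hu u h'
  rw [xtMap_eq] at this
  exact this

theorem cls_lambdaSheaf [GrpObj X] {L : X.left.Modules} (hL : PicF.IsInvertible L)
    {N : (PicF.XT X.hom X).Modules} (hN : PicF.IsInvertible N)
    (h : AgPol.IsLambdaSheaf (μ[X].left : PicF.XT X.hom X ⟶ X.left) (fst X X).left (snd X X).left L N) :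
    PicGrp.cls N hN = mum X (PicGrp.cls L hL) (𝟙 X) := by
  have h' := (PicLaw.Mumford.lambda_iff _ _ _ hL hN).mp h
  rw [mum, Category.comp_id, show fst X X * snd X X = μ[X] by rw [Hom.mul_def, lift_fst_snd, Category.id_comp],
    eq_div_iff_mul_eq', ← _root_.mul_assoc]
  exact h'

/-- The kernel of the homomorphism attached to `L` is `K(L)`. -/
theorem isKernel_of_isKL [GrpObj X] [GeometricallyConnected X.hom] [LocallyOfFiniteType X.hom] [QuasiCompact X.hom]
    {φ : ∀ T : Over S, PicF.Cl (PicF.XT X.hom T) → (T ⟶ Xt)}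
    (hφ : AbDual.IsDualAV Scheme.fppfPrecoverage X Xt φ)
    {L : X.left.Modules} (hL : PicF.IsInvertible L) (he : op η[X] (PicGrp.cls L hL) = 1)
    {lam : X ⟶ Xt} (hlam : AgPol.IsLambda X Xt φ L lam)
    {KL : Over S} (i : KL ⟶ X) (hK : ThetaGrp.IsKL X L i) : AlgGrp.IsKernel i lam := by
  obtain ⟨N, hN, hlamN, hN'⟩ := hlam
  have hl : lam = φ X (mum X (PicGrp.cls L hL) (𝟙 X)).1 := by
    rw [← cls_lambdaSheaf hL hN hlamN]; exact hN'.symm
  have hpt : ∀ (T : Over S) (z : T ⟶ X), z ≫ lam = φ T (mum X (PicGrp.cls L hL) z).1 := by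
    intro T z
    rw [hl, ← pt_natural hφ z _ (zero_mum X _ (𝟙 X)), op_mum_whisker, Category.comp_id]
  have hmem : ∀ (T : Over S) (z : T ⟶ X),
      (∃ y : T ⟶ KL, y ≫ i = z) ↔ mum X (PicGrp.cls L hL) z = 1 := by
    intro T z
    rw [← hK.univ, PicLaw.Mumford.isMumfordTriv_iff X L hL, mum, div_eq_one, PicLaw.Mumford.op_comp]
    exact ⟨fun ⟨c, hc⟩ => by obtain rfl := PicLaw.Mumford.eq_of_inK he hc; exact hc, fun h => ⟨_, h⟩⟩
  have : IsClosedImmersion i.left := hK.closed
  have key : ∀ (T : Over S) (z : T ⟶ X), z ≫ lam = 1 → ∃ y : T ⟶ KL, y ≫ i = z := by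
    intro T z hz
    obtain ⟨R, hR, hu⟩ := pt_locallyInjective hφ (mum X (PicGrp.cls L hL) z) 1 (zero_mum X _ z) (zero_one T)
      (by rw [← hpt, hz, pt_one hφ])
    refine exists_lift_of_fppf i z hR fun U u h => ?_
    have h1 := hu u h
    rw [op_mum_whisker, map_one] at h1
    obtain ⟨y, hy⟩ := (hmem _ _).mpr h1
    exact ⟨y.left, congrArg CommaMorphism.left hy⟩
  have hcomm : i ≫ lam = toUnit KL ≫ η[Xt] := by
    rw [hpt, (hmem KL i).mp ⟨𝟙 _, Category.id_comp i⟩, pt_one hφ, Hom.one_def]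
  have : Mono i := (Over.forget S).mono_of_mono_map (inferInstanceAs (Mono i.left))
  have hs : ∀ s : PullbackCone lam η[Xt], s.fst ≫ lam = 1 := fun s => by
    refine s.condition.trans ?_
    rw [toUnit_unique s.snd (toUnit _), Hom.one_def]
  exact ⟨⟨hcomm⟩, ⟨PullbackCone.IsLimit.mk _ (fun s => (key _ s.fst (hs s)).choose)
    (fun s => (key _ s.fst (hs s)).choose_spec) (fun s => toUnit_unique _ _) (fun s m hm _ => by
      rw [← cancel_mono i, hm]
      exact (key _ s.fst (hs s)).choose_spec.symm)⟩⟩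

end Groth.Agent.PicZero
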