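import Groth.Agent.PicLaw.Mumford
import Groth.Prelude.Def_AbDual
import Mathlib.AlgebraicGeometry.Geometrically.Connected

/-!
# Fibrewise algebraically trivial classes and points of a dual abelian scheme
-/

set_option autoImplicit false
universe u

open CategoryTheory CategoryTheory.Limits MonoidalCategory CartesianMonoidalCategory MonObj AlgebraicGeometry

noncomputable section

namespace Groth.Agent.PicZero

open scoped Groth.Agent.PicLaw
open PicLaw (pl)
open PicLaw.Mumford (op)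

variable {S : Scheme.{u}} {X : Over S}

/-- The classes of invertible modules algebraically trivial on all geometric fibres. -/
def Zero (T : Over S) (c : PicLoc.PicSet (PicF.XT X.hom T)) : Prop :=
  AbDual.IsPicZeroCl X.hom T c.1

theorem pl_val {Y Z : Scheme.{u}} (f : Y ⟶ Z) (c : PicLoc.PicSet Z) : (pl f c).1 = PicF.pullCl f c.1 := rfl

theorem zero_iff {T : Over S} {L : (PicF.XT X.hom T).Modules} (hL : PicF.IsInvertible L) :
    Zero T (PicGrp.cls L hL) ↔ ∀ t : T.left, AbDual.IsAlgTrivialAt (PicF.XTproj X.hom T) L t := by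
  constructor
  · rintro ⟨L', hL', hinv, h⟩ t Ω _ _ σ hσ
    obtain ⟨e⟩ := (PicGrp.cl_eq_cl_iff L' L).mp hL'
    obtain ⟨T', q, h1, h2, h3, M, hM, t₁, t₀, ht, ht₀, ⟨e₁⟩, he₀⟩ := h t Ω σ hσ
    exact ⟨T', q, h1, h2, h3, M, hM, t₁, t₀, ht, ht₀,
      ⟨e₁ ≪≫ (Scheme.Modules.pullback _).mapIso e⟩, he₀⟩
  · exact fun h => ⟨L, rfl, hL, h⟩

theorem xtMap_eq {T T' : Over S} (g : T' ⟶ T) : PicF.XTmap X.hom g = (X ◁ g).left := by
  apply pullback.hom_ext
  · refine (pullback.lift_fst _ _ _).trans (Eq.trans ?_ (congrArg CommaMorphism.left (whiskerLeft_fst X g)).symm)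
    exact Category.comp_id _
  · exact (pullback.lift_snd _ _ _).trans (congrArg CommaMorphism.left (whiskerLeft_snd X g)).symm

/-- Algebraic triviality on the geometric fibre from a class on `X_Ω × X_Ω`-style families. -/
theorem zero_of_family {T : Over S} (c : PicLoc.PicSet (X ⊗ T).left)
    (h : ∀ (Ω : Type u) [Field Ω] [IsAlgClosed Ω] (σ : Spec (CommRingCat.of Ω) ⟶ T.left),
      ∃ (F : Scheme.{u}) (q : F ⟶ Spec (CommRingCat.of Ω)) (_ : ConnectedSpace F) (_ : LocallyOfFiniteType q)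
        (_ : QuasiCompact q) (m : PicLoc.PicSet (pullback (pullback.snd (snd X T).left σ) q))
        (t t₀ : Spec (CommRingCat.of Ω) ⟶ F) (ht : t ≫ q = 𝟙 _) (ht₀ : t₀ ≫ q = 𝟙 _),
        pl (pullback.lift (𝟙 _) (pullback.snd (snd X T).left σ ≫ t) (by simp [ht])) m =
          pl (pullback.fst (snd X T).left σ) c ∧
        pl (pullback.lift (𝟙 _) (pullback.snd (snd X T).left σ ≫ t₀) (by simp [ht₀])) m = 1) :
    Zero T c := by
  obtain ⟨L, hL, rfl⟩ := PicGrp.exists_eq_cls c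
  refine (zero_iff hL).mpr fun p Ω _ _ σ _ => ?_
  obtain ⟨F, q, h1, h2, h3, m, t, t₀, ht, ht₀, e₁, e₀⟩ := h Ω σ
  obtain ⟨M, hM, rfl⟩ := PicGrp.exists_eq_cls m
  rw [← PicLaw.cls_pullback _ hM, ← PicLaw.cls_pullback _ hL, PicGrp.cls_eq_cls_iff] at e₁
  rw [← PicLaw.cls_pullback _ hM, PicGrp.cls_eq_one_iff] at e₀
  exact ⟨F, q, h1, h2, h3, M, hM, t, t₀, ht, ht₀, e₁, e₀⟩

theorem zero_one (T : Over S) : Zero T (1 : PicLoc.PicSet (X ⊗ T).left) := by
  refine zero_of_family 1 fun Ω _ _ σ => ?_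
  have : ConnectedSpace ↥(Spec (CommRingCat.of Ω)) := inferInstance
  exact ⟨Spec (CommRingCat.of Ω), 𝟙 _, this, inferInstance, inferInstance, 1, 𝟙 _, 𝟙 _,
    Category.comp_id _, Category.comp_id _, by rw [map_one, map_one], by rw [map_one]⟩

section mumford

variable (X) [GrpObj X]

/-- The class `m^* l / (p^* l · q^* z^* l)` on `X × T`. -/
def mum (l : PicLoc.PicSet X.left) {T : Over S} (z : T ⟶ X) : PicLoc.PicSet (X ⊗ T).left :=
  op (fst X T * (snd X T ≫ z)) l / (op (fst X T) l * op (snd X T ≫ z) l)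

theorem op_mum (l : PicLoc.PicSet X.left) {T W : Over S} (z : T ⟶ X) (π : W ⟶ X ⊗ T) :
    op π (mum X l z) =
      op ((π ≫ fst X T) * (π ≫ snd X T ≫ z)) l / (op (π ≫ fst X T) l * op (π ≫ snd X T ≫ z) l) := by
  rw [mum, map_div, map_mul, ← PicLaw.Mumford.op_comp, ← PicLaw.Mumford.op_comp, ← PicLaw.Mumford.op_comp,
    MonObj.comp_mul]

theorem op_mum_whisker (l : PicLoc.PicSet X.left) {T T' : Over S} (z : T ⟶ X) (g : T' ⟶ T) :
    op (X ◁ g) (mum X l z) = mum X l (g ≫ z) := by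
  rw [op_mum, mum, whiskerLeft_fst, whiskerLeft_snd_assoc]

/-- The Mumford class is algebraically trivial on geometric fibres. -/
theorem zero_mum [GeometricallyConnected X.hom] [LocallyOfFiniteType X.hom] [QuasiCompact X.hom]
    (l : PicLoc.PicSet X.left) {T : Over S} (z : T ⟶ X) : Zero T (mum X l z) := by
  refine zero_of_family _ fun Ω _ _ σ => ?_
  let pY := pullback.snd (snd X T).left σ
  have hpb : IsPullback (pullback.fst (snd X T).left σ ≫ (fst X T).left) pY X.hom (σ ≫ T.hom) :=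
    IsPullback.paste_horiz (IsPullback.of_hasPullback _ _) (IsPullback.of_hasPullback X.hom T.hom)
  have hconn : ConnectedSpace ↥(pullback (snd X T).left σ) :=
    GeometricallyConnected.geometrically_connectedSpace (f := X.hom) _ _ _ hpb
  have hlft : LocallyOfFiniteType pY := MorphismProperty.of_isPullback hpb inferInstance
  have hqc : QuasiCompact pY := MorphismProperty.of_isPullback hpb inferInstance
  let YS : Over S := Over.mk (pY ≫ σ ≫ T.hom)
  let ΩS : Over S := Over.mk (σ ≫ T.hom)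
  let π : YS ⟶ X ⊗ T := Over.homMk (pullback.fst (snd X T).left σ) (by
    rw [← Over.w (snd X T), pullback.condition_assoc]; rfl)
  let p₁ : YS ⟶ ΩS := Over.homMk pY rfl
  let σS : ΩS ⟶ T := Over.homMk σ rfl
  let W := Over.mk ((pullback.fst pY pY ≫ pY) ≫ σ ≫ T.hom)
  let w₁ : W ⟶ YS := Over.homMk (pullback.fst pY pY) (Category.assoc _ _ _).symm
  let w₂ : W ⟶ YS := Over.homMk (pullback.snd pY pY) (by
    show pullback.snd pY pY ≫ pY ≫ σ ≫ T.hom = (pullback.fst pY pY ≫ pY) ≫ σ ≫ T.hom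
    rw [pullback.condition, Category.assoc])
  let a : W ⟶ X := w₁ ≫ π ≫ fst X T
  let b : W ⟶ X := w₂ ≫ π ≫ fst X T
  have hπq : π ≫ snd X T = p₁ ≫ σS := Over.OverMorphism.ext (pullback.condition)
  have point : ∀ y : T ⟶ X, ∃ tS : ΩS ⟶ YS,
      tS.left ≫ pY = 𝟙 _ ∧ tS ≫ π ≫ fst X T = σS ≫ y := by
    intro y
    have hw : (σ ≫ (lift y (𝟙 T)).left) ≫ (snd X T).left = 𝟙 _ ≫ σ := by
      rw [Category.assoc, ← Over.comp_left, lift_snd]; exact (Category.comp_id _).trans (Category.id_comp _).symm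
    refine ⟨Over.homMk (pullback.lift (σ ≫ (lift y (𝟙 T)).left) (𝟙 _) hw) (by
      show pullback.lift _ _ hw ≫ pY ≫ σ ≫ T.hom = σ ≫ T.hom
      rw [pullback.lift_snd_assoc, Category.id_comp]), pullback.lift_snd _ _ _, Over.OverMorphism.ext ?_⟩
    show pullback.lift _ _ hw ≫ pullback.fst _ σ ≫ (fst X T).left = σ ≫ y.left
    rw [pullback.lift_fst_assoc, Category.assoc, ← Over.comp_left, lift_fst]
  obtain ⟨t, ht, hty⟩ := point z
  obtain ⟨t₀, ht₀, ht₀y⟩ := point 1
  refine ⟨_, pY, hconn, hlft, hqc, op (a * b) l / (op a l * op b l), t.left, t₀.left, ht, ht₀, ?_, ?_⟩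
  · let s : YS ⟶ W := Over.homMk (pullback.lift (𝟙 _) (pY ≫ t.left) (((Category.assoc _ _ _).trans ((congrArg (pY ≫ ·) ht).trans (Category.comp_id _))).trans (Category.id_comp _).symm).symm) (by
      show pullback.lift _ _ _ ≫ (pullback.fst pY pY ≫ pY) ≫ σ ≫ T.hom = pY ≫ σ ≫ T.hom
      exact (congrArg (pullback.lift _ _ _ ≫ ·) (Category.assoc _ _ _)).trans
        ((pullback.lift_fst_assoc _ _ _ _).trans (Category.id_comp _)))
    have h1 : s ≫ w₁ = 𝟙 YS := Over.OverMorphism.ext (pullback.lift_fst _ _ _)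
    have h2 : s ≫ w₂ = p₁ ≫ t := Over.OverMorphism.ext (pullback.lift_snd _ _ _)
    have ha : s ≫ a = π ≫ fst X T := by rw [reassoc_of% h1]
    have hb : s ≫ b = π ≫ snd X T ≫ z := by rw [reassoc_of% h2, hty, reassoc_of% hπq]
    show op s _ = op π (mum X l z)
    rw [op_mum, map_div, map_mul, ← PicLaw.Mumford.op_comp, ← PicLaw.Mumford.op_comp,
      ← PicLaw.Mumford.op_comp, MonObj.comp_mul, ha, hb]
  · let s : YS ⟶ W := Over.homMk (pullback.lift (𝟙 _) (pY ≫ t₀.left) (((Category.assoc _ _ _).trans ((congrArg (pY ≫ ·) ht₀).trans (Category.comp_id _))).trans (Category.id_comp _).symm).symm) (by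
      show pullback.lift _ _ _ ≫ (pullback.fst pY pY ≫ pY) ≫ σ ≫ T.hom = pY ≫ σ ≫ T.hom
      exact (congrArg (pullback.lift _ _ _ ≫ ·) (Category.assoc _ _ _)).trans
        ((pullback.lift_fst_assoc _ _ _ _).trans (Category.id_comp _)))
    have h1 : s ≫ w₁ = 𝟙 YS := Over.OverMorphism.ext (pullback.lift_fst _ _ _)
    have h2 : s ≫ w₂ = p₁ ≫ t₀ := Over.OverMorphism.ext (pullback.lift_snd _ _ _)
    have ha : s ≫ a = π ≫ fst X T := by rw [reassoc_of% h1]
    have hb : s ≫ b = 1 := by rw [reassoc_of% h2, ht₀y, MonObj.comp_one, MonObj.comp_one]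
    have hunit : op (1 : ΩS ⟶ X) l = 1 := by
      obtain ⟨L, hL, rfl⟩ := PicGrp.exists_eq_cls l
      have : Subsingleton ↥ΩS.left := inferInstanceAs (Subsingleton (PrimeSpectrum Ω))
      have : Nonempty ↥ΩS.left := inferInstanceAs (Nonempty (PrimeSpectrum Ω))
      rw [← PicLaw.cls_pullback _ hL]
      exact (PicGrp.cls_eq_one_iff _).mpr
        (PicLaw.nonempty_iso_of_subsingleton (PicLoc.isInvertible_pullback _ hL))
    have h1' : op (1 : YS ⟶ X) l = 1 := by
      rw [← MonObj.comp_one (M := X) p₁, PicLaw.Mumford.op_comp, hunit, map_one]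
    show op s _ = 1
    rw [map_div, map_mul, ← PicLaw.Mumford.op_comp, ← PicLaw.Mumford.op_comp,
      ← PicLaw.Mumford.op_comp, MonObj.comp_mul, ha, hb, _root_.mul_one, h1', _root_.mul_one, div_self']

end mumford

end Groth.Agent.PicZero
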